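import Mathlib
import Groth.Agent.Lib.Helper5.DRing.ConeEl

set_option autoImplicit false
universe u
open CategoryTheory Limits CochainComplex HomComplex

namespace Groth.Agent.Lib.Helper5.KProj
open mappingCone Groth.Agent.Helper5.ConeEl
variable {R : Type u} [CommRing R]

section ZeroDiff

variable {C : Type*} [Category C] [Abelian C]

/-- In a complex with zero differential and projective terms, every cocycle with values in an
acyclic complex is a coboundary. -/
theorem exists_δ_eq_of_d_eq_zero (F Y : CochainComplex C ℤ) (hd : ∀ i j, F.d i j = 0)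
    [∀ n, Projective (F.X n)] (hY : Y.Acyclic) (n m : ℤ) (hm : m + 1 = n)
    (z : Cochain F Y n) (hz : δ n (n + 1) z = 0) : ∃ α : Cochain F Y m, δ m n α = z := by
  have key : ∀ p q' (hpq' : p + m = q'), ∃ a : F.X p ⟶ Y.X q',
      ∀ q (hq : q' + 1 = q), a ≫ Y.d q' q = z.v p q (by omega) := by
    intro p q' hpq'
    have h1 : z.v p (q' + 1) (by omega) ≫ Y.d (q' + 1) (q' + 1 + 1) = 0 := by
      have := Cochain.congr_v hz p (q' + 1 + 1) (by omega)
      rw [δ_v n (n + 1) rfl z p (q' + 1 + 1) (by omega) (q' + 1) (p + 1) (by omega) rfl] at this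
      simpa [hd] using this
    have hex : (Y.sc' q' (q' + 1) (q' + 1 + 1)).Exact :=
      (Y.exactAt_iff' q' (q' + 1) (q' + 1 + 1) (by simp) (by simp)).1 (hY (q' + 1))
    refine ⟨hex.liftFromProjective (z.v p (q' + 1) (by omega)) h1, ?_⟩
    rintro q rfl
    exact hex.liftFromProjective_comp _ _
  choose a ha using key
  refine ⟨Cochain.mk (fun p q hpq => a p q hpq), ?_⟩
  ext p q hpq
  rw [δ_v m n hm _ p q hpq (q - 1) (p + 1) rfl rfl]
  simp only [Cochain.mk_v, hd, zero_comp, smul_zero, add_zero]
  exact ha p (q - 1) (by omega) q (by omega)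

/-- Extension of a null-homotopy from `G` to the mapping cone of `φ : F ⟶ G`. -/
theorem exists_extension {F G Y : CochainComplex C ℤ} (φ : F ⟶ G)
    (hF : ∀ z : Cochain F Y (-1), δ (-1) 0 z = 0 → ∃ α : Cochain F Y (-2), δ (-2) (-1) α = z)
    (g : mappingCone φ ⟶ Y) (h : Cochain G Y (-1))
    (hh : δ (-1) 0 h = Cochain.ofHom (inr φ ≫ g)) :
    ∃ h' : Cochain (mappingCone φ) Y (-1), δ (-1) 0 h' = Cochain.ofHom g ∧
      (Cochain.ofHom (inr φ)).comp h' (zero_add (-1)) = h := by
  obtain ⟨α, hα⟩ := hF ((inl φ).comp (Cochain.ofHom g) (add_zero (-1)) -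
      (Cochain.ofHom φ).comp h (zero_add (-1))) (by
    rw [δ_sub, δ_comp (inl φ) (Cochain.ofHom g) (add_zero (-1)) 0 1 0 (by simp) (by simp) (by simp),
      δ_ofHom_comp, hh]
    simp)
  refine ⟨descCochain φ α h (by simp), ?_, by simp⟩
  simp only [Cochain.ofHom_comp] at hh
  simp [ext_cochain_from_iff _ _ _ (neg_add_cancel 1),
    δ_descCochain _ _ _ _ _ (neg_add_cancel 1), hα, hh]

end ZeroDiff

section Cell

variable {X P : CochainComplex (ModuleCat.{u} R) ℤ} (f : P ⟶ X)

/-- The cells to attach in degree `n`: a cycle `c` of `P` in degree `n` together with a bounding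
element `x` of `f c` in `X`. -/
def Cell (n : ℤ) : Type u :=
  {cx : P.X n × X.X (n - 1) //
    (P.d n (n + 1)).hom cx.1 = 0 ∧ (X.d (n - 1) n).hom cx.2 = (f.f n).hom cx.1}

/-- the free complex on the cells, with zero differential -/
noncomputable def cellCx : CochainComplex (ModuleCat.{u} R) ℤ where
  X n := ModuleCat.of R (Cell f n →₀ R)
  d _ _ := 0
  shape _ _ _ := rfl
  d_comp_d' _ _ _ _ _ := by simp

theorem cellCx_d (i j : ℤ) : (cellCx f).d i j = 0 := rfl

instance (n : ℤ) : Projective ((cellCx f).X n) := by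
  show Projective (ModuleCat.of R (Cell f n →₀ R))
  exact (IsProjective.iff_projective _).1 inferInstance

/-- the attaching map -/
noncomputable def cellMap : cellCx f ⟶ P where
  f n := ModuleCat.ofHom (Finsupp.linearCombination R (fun s : Cell f n => s.1.1))
  comm' i j hij := by
    obtain rfl : j = i + 1 := hij.symm
    rw [cellCx_d, zero_comp]
    apply ModuleCat.hom_ext
    apply Finsupp.lhom_ext'
    intro s
    apply LinearMap.ext_ring
    show (P.d i (i + 1)).hom (Finsupp.linearCombination R (fun s : Cell f i => s.1.1)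
      (Finsupp.single s 1)) = 0
    rw [Finsupp.linearCombination_single, one_smul, s.2.1]

/-- the generator attached to a cell -/
noncomputable def gen {n : ℤ} (s : Cell f n) : (cellCx f).X n :=
  (Finsupp.single s 1 : Cell f n →₀ R)

theorem cellMap_single (n : ℤ) (s : Cell f n) :
    ((cellMap f).f n).hom (gen f s) = s.1.1 := by
  show Finsupp.linearCombination R (fun s : Cell f n => s.1.1) (Finsupp.single s 1) = _
  rw [Finsupp.linearCombination_single, one_smul]

/-- the bounding cochain -/
noncomputable def cellCochain : Cochain (cellCx f) X (-1) :=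
  Cochain.mk (fun p q hpq => ModuleCat.ofHom (Finsupp.linearCombination R
    (fun s : Cell f p => (X.XIsoOfEq (by omega : p - 1 = q)).hom.hom s.1.2)))

theorem cellCochain_single (n : ℤ) (s : Cell f n) :
    ((cellCochain f).v n (n - 1) (by omega)).hom (gen f s) = s.1.2 := by
  show Finsupp.linearCombination R (fun s : Cell f n =>
    (X.XIsoOfEq (rfl : n - 1 = n - 1)).hom.hom s.1.2) (Finsupp.single s 1) = _
  rw [Finsupp.linearCombination_single, one_smul, HomologicalComplex.XIsoOfEq_rfl]
  rfl

theorem δ_cellCochain : δ (-1) 0 (cellCochain f) = Cochain.ofHom (cellMap f ≫ f) := by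
  refine Cochain.ext _ _ (fun p q hpq => ?_)
  obtain rfl : p = q := by omega
  rw [δ_v (-1) 0 (neg_add_cancel 1) _ p p (add_zero p) (p - 1) (p + 1) rfl rfl]
  simp only [cellCx_d, zero_comp, smul_zero, add_zero, Cochain.ofHom_v, HomologicalComplex.comp_f]
  apply ModuleCat.hom_ext
  apply Finsupp.lhom_ext'
  intro s
  apply LinearMap.ext_ring
  show (X.d (p - 1) p).hom (((cellCochain f).v p (p - 1) (by omega)).hom (gen f s)) =
    (f.f p).hom (((cellMap f).f p).hom (gen f s))
  rw [cellCochain_single, cellMap_single, s.2.2]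

/-- the next stage: attach the cells -/
noncomputable abbrev nextCx : CochainComplex (ModuleCat.{u} R) ℤ := mappingCone (cellMap f)

/-- the map from the next stage -/
noncomputable abbrev nextMap : nextCx f ⟶ X :=
  desc (cellMap f) (cellCochain f) f (δ_cellCochain f)

/-- the inclusion into the next stage -/
noncomputable abbrev nextι : P ⟶ nextCx f := inr (cellMap f)

@[reassoc (attr := simp)]
theorem nextι_nextMap : nextι f ≫ nextMap f = f := inr_desc _ _ _ _

/-- cycles of `P` whose image is a boundary become boundaries in the next stage -/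
theorem exists_d_eq_nextι (n : ℤ) (c : P.X n) (x : X.X (n - 1)) (hc : (P.d n (n + 1)).hom c = 0)
    (hx : (X.d (n - 1) n).hom x = (f.f n).hom c) :
    ∃ y : (nextCx f).X (n - 1), ((nextCx f).d (n - 1) n).hom y = ((nextι f).f n).hom c := by
  let s : Cell f n := ⟨(c, x), hc, hx⟩
  refine ⟨inlL (cellMap f) (n - 1) n (by omega) (gen f s), ?_⟩
  apply ext (cellMap f) n (n + 1) rfl
  · rw [fstL_d (cellMap f) (n - 1) n (n + 1) (by omega) rfl, cellCx_d]
    erw [fstL_inrL (cellMap f) n (n + 1) rfl]
    simp
  · rw [sndL_d (cellMap f) (n - 1) n (by omega), fstL_inlL, sndL_inlL, map_zero, add_zero,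
      cellMap_single]
    erw [sndL_inrL]

/-- every cycle of `X` is the image of a cycle of the next stage -/
theorem exists_cycle_nextMap_eq (n : ℤ) (x : X.X (n - 1)) (hx : (X.d (n - 1) n).hom x = 0) :
    ∃ y : (nextCx f).X (n - 1), ((nextCx f).d (n - 1) n).hom y = 0 ∧
      ((nextMap f).f (n - 1)).hom y = x := by
  let s : Cell f n := ⟨(0, x), by simp, by simpa using hx⟩
  refine ⟨inlL (cellMap f) (n - 1) n (by omega) (gen f s), ?_, ?_⟩
  · apply ext (cellMap f) n (n + 1) rfl
    · rw [fstL_d (cellMap f) (n - 1) n (n + 1) (by omega) rfl, cellCx_d]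
      simp
    · rw [sndL_d (cellMap f) (n - 1) n (by omega), fstL_inlL, sndL_inlL, map_zero, add_zero,
        cellMap_single, map_zero]
  · erw [desc_apply (cellMap f) (cellCochain f) f (δ_cellCochain f) (n - 1) n (by omega)]
    rw [fstL_inlL, sndL_inlL, map_zero, add_zero, cellCochain_single]

end Cell

end Groth.Agent.Lib.Helper5.KProj
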