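import Mathlib
import Groth.Agent.Lib.Helper5.KProj.Step

set_option autoImplicit false
universe u
open CategoryTheory Limits CochainComplex HomComplex ZeroObject
attribute [local instance] HasDerivedCategory.standard

namespace Groth.Agent.Lib.Helper5.KProj
open mappingCone Groth.Agent.Helper5.ConeEl
variable {R : Type u} [CommRing R]

instance preservesColimitsOfShape_nat_forget :
    PreservesColimitsOfShape ℕ (forget (ModuleCat.{u} R)) := by
  have : PreservesFilteredColimitsOfSize.{0, 0} (forget (ModuleCat.{u} R)) :=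
    preservesSmallestFilteredColimits_of_preservesFilteredColimits.{u, u} _
  exact PreservesFilteredColimitsOfSize.preserves_filtered_colimits ℕ

section Colim

variable (D : ℕ ⥤ CochainComplex (ModuleCat.{u} R) ℤ) (c : Cocone D) (hc : IsColimit c)

/-- the cocone maps, with target syntactically `c.pt` -/
def cι (k : ℕ) : D.obj k ⟶ c.pt := c.ι.app k

include hc in
/-- elements of a sequential colimit of complexes come from a stage -/
theorem exists_rep (n : ℤ) (x : c.pt.X n) :
    ∃ (k : ℕ) (y : (D.obj k).X n), ((cι D c k).f n).hom y = x := by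
  have hcn := isColimitOfPreserves (HomologicalComplex.eval (ModuleCat.{u} R) (ComplexShape.up ℤ) n) hc
  obtain ⟨k, y, hy⟩ := Concrete.isColimit_exists_rep
    (D ⋙ HomologicalComplex.eval (ModuleCat.{u} R) (ComplexShape.up ℤ) n) hcn x
  exact ⟨k, y, hy⟩

include hc in
/-- elements of a stage that vanish in the colimit vanish at a later stage -/
theorem exists_map_eq_zero (n : ℤ) (k : ℕ) (y : (D.obj k).X n)
    (hy : ((cι D c k).f n).hom y = 0) :
    ∃ (k' : ℕ) (hk : k ≤ k'), ((D.map (homOfLE hk)).f n).hom y = 0 := by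
  have hcn := isColimitOfPreserves (HomologicalComplex.eval (ModuleCat.{u} R) (ComplexShape.up ℤ) n) hc
  obtain ⟨k', f, g, h⟩ := Concrete.isColimit_exists_of_rep_eq
    (D ⋙ HomologicalComplex.eval (ModuleCat.{u} R) (ComplexShape.up ℤ) n) hcn y (0 : (D.obj k).X n)
    (by
      show ((cι D c k).f n).hom y = ((cι D c k).f n).hom 0
      rw [hy, map_zero])
  refine ⟨k', leOfHom f, ?_⟩
  have : ((D.map g).f n).hom (0 : (D.obj k).X n) = 0 := map_zero _
  exact h.trans this

theorem ι_map_apply (n : ℤ) {k k' : ℕ} (hk : k ≤ k') (y : (D.obj k).X n) :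
    ((cι D c k').f n).hom (((D.map (homOfLE hk)).f n).hom y) = ((cι D c k).f n).hom y := by
  have : D.map (homOfLE hk) ≫ cι D c k' = cι D c k := c.w (homOfLE hk)
  rw [← this]
  rfl

theorem hom_d_apply {K L : CochainComplex (ModuleCat.{u} R) ℤ} (g : K ⟶ L) (i j : ℤ) (y : K.X i) :
    (L.d i j).hom ((g.f i).hom y) = (g.f j).hom ((K.d i j).hom y) := by
  have := congrArg (fun t => t.hom y) (g.comm i j)
  simp only [ModuleCat.hom_comp, LinearMap.comp_apply] at this
  exact this

variable {X : CochainComplex (ModuleCat.{u} R) ℤ} (φ : c.pt ⟶ X)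

include hc in
/-- a criterion for the map from a sequential colimit to be a quasi-isomorphism -/
theorem quasiIso_of_colimit
    (H1 : ∀ (k : ℕ) (n : ℤ) (y : (D.obj k).X n) (x : X.X (n - 1)),
      ((D.obj k).d n (n + 1)).hom y = 0 →
      (X.d (n - 1) n).hom x = ((cι D c k ≫ φ).f n).hom y →
      ∃ w : (D.obj (k + 1)).X (n - 1), ((D.obj (k + 1)).d (n - 1) n).hom w =
        ((D.map (homOfLE (Nat.le_add_right k 1))).f n).hom y)
    (H2 : ∀ (n : ℤ) (x : X.X (n - 1)), (X.d (n - 1) n).hom x = 0 →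
      ∃ (k : ℕ) (y : (D.obj k).X (n - 1)), ((D.obj k).d (n - 1) n).hom y = 0 ∧
        ((cι D c k ≫ φ).f (n - 1)).hom y = x) :
    QuasiIso φ := by
  rw [Groth.Agent.Helper5.FlatAcyc.quasiIso_iff_acyclic_cone]
  intro i
  obtain ⟨j, rfl⟩ : ∃ j, i = j - 1 := ⟨i + 1, by ring⟩
  rw [exactAt_cone_iff φ (j - 1 - 1) (j - 1) j (j + 1) (by ring) (by ring) rfl]
  intro f g hf hfg
  -- represent `f` by a cycle at some stage
  obtain ⟨k₀, y₀, hy₀⟩ := exists_rep D c hc j f
  have h0 : ((cι D c k₀).f (j + 1)).hom (((D.obj k₀).d j (j + 1)).hom y₀) = 0 := by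
    rw [← hom_d_apply, hy₀, hf]
  obtain ⟨k, hk, hk0⟩ := exists_map_eq_zero D c hc (j + 1) k₀ _ h0
  let y := ((D.map (homOfLE hk)).f j).hom y₀
  have hy : ((cι D c k).f j).hom y = f := by rw [ι_map_apply, hy₀]
  have hdy : ((D.obj k).d j (j + 1)).hom y = 0 := by
    rw [hom_d_apply]; exact hk0
  have hx : (X.d (j - 1) j).hom (-g) = ((cι D c k ≫ φ).f j).hom y := by
    have : ((cι D c k ≫ φ).f j).hom y = (φ.f j).hom f := by
      rw [← hy]; rfl
    rw [this, map_neg]
    exact (eq_neg_of_add_eq_zero_left hfg).symm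
  obtain ⟨w, hw⟩ := H1 k j y (-g) hdy hx
  let f₀ : c.pt.X (j - 1) := -((cι D c (k + 1)).f (j - 1)).hom w
  have hf₀ : -(c.pt.d (j - 1) j).hom f₀ = f := by
    show -(c.pt.d (j - 1) j).hom (-((cι D c (k + 1)).f (j - 1)).hom w) = f
    rw [map_neg, neg_neg, hom_d_apply, hw, ι_map_apply, hy]
  have hcyc : (X.d (j - 1) j).hom (g - (φ.f (j - 1)).hom f₀) = 0 := by
    rw [map_sub, hom_d_apply]
    have : (c.pt.d (j - 1) j).hom f₀ = -f := by rw [← hf₀, neg_neg]
    rw [this, map_neg, sub_neg_eq_add, add_comm]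
    exact hfg
  obtain ⟨k', y', hy'1, hy'2⟩ := H2 j _ hcyc
  refine ⟨f₀ + ((cι D c k').f (j - 1)).hom y', 0, ?_, ?_⟩
  · rw [map_add, hom_d_apply _ _ _ y', hy'1, map_zero, add_zero]
    exact hf₀
  · rw [map_zero, add_zero, map_add]
    have : (φ.f (j - 1)).hom (((cι D c k').f (j - 1)).hom y') = g - (φ.f (j - 1)).hom f₀ := hy'2
    rw [this]
    abel

end Colim

section KProjColim

variable (D : ℕ ⥤ CochainComplex (ModuleCat.{u} R) ℤ) (c : Cocone D) (hc : IsColimit c)

/-- the transition map -/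
abbrev tr (k : ℕ) : D.obj k ⟶ D.obj (k + 1) := D.map (homOfLE (Nat.le_add_right k 1))

theorem tr_cι (k : ℕ) : tr D k ≫ cι D c (k + 1) = cι D c k := c.w _

variable {Y : CochainComplex (ModuleCat.{u} R) ℤ}
  (hext : ∀ (k : ℕ) (g : D.obj (k + 1) ⟶ Y) (h : Cochain (D.obj k) Y (-1)),
    δ (-1) 0 h = Cochain.ofHom (tr D k ≫ g) →
    ∃ h' : Cochain (D.obj (k + 1)) Y (-1), δ (-1) 0 h' = Cochain.ofHom g ∧
      (Cochain.ofHom (tr D k)).comp h' (zero_add (-1)) = h)
  (h0 : ∀ g : D.obj 0 ⟶ Y, ∃ h : Cochain (D.obj 0) Y (-1), δ (-1) 0 h = Cochain.ofHom g)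
  (g : c.pt ⟶ Y)

/-- the compatible system of null-homotopies -/
noncomputable def hseq :
    ∀ k : ℕ, {h : Cochain (D.obj k) Y (-1) // δ (-1) 0 h = Cochain.ofHom (cι D c k ≫ g)}
  | 0 => ⟨(h0 (cι D c 0 ≫ g)).choose, (h0 (cι D c 0 ≫ g)).choose_spec⟩
  | k + 1 =>
    have H := hext k (cι D c (k + 1) ≫ g) (hseq k).1 (by
      rw [(hseq k).2, ← Category.assoc, tr_cι])
    ⟨H.choose, H.choose_spec.1⟩

theorem hseq_compat (k : ℕ) :
    (Cochain.ofHom (tr D k)).comp (hseq D c hext h0 g (k + 1)).1 (zero_add (-1)) =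
      (hseq D c hext h0 g k).1 :=
  (hext k (cι D c (k + 1) ≫ g) (hseq D c hext h0 g k).1 (by
      rw [(hseq D c hext h0 g k).2, ← Category.assoc, tr_cι])).choose_spec.2

/-- the cocone in bidegree `(p, q)` -/
noncomputable def glueCocone (p q : ℤ) (hpq : p + (-1) = q) :
    Cocone (D ⋙ HomologicalComplex.eval (ModuleCat.{u} R) (ComplexShape.up ℤ) p) where
  pt := Y.X q
  ι := NatTrans.ofSequence (fun k => (hseq D c hext h0 g k).1.v p q hpq) (fun k => by
    have := Cochain.congr_v (hseq_compat D c hext h0 g k) p q hpq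
    rw [Cochain.zero_cochain_comp_v, Cochain.ofHom_v] at this
    exact this.trans (Category.comp_id _).symm)

include hc in
/-- the glued null-homotopy -/
noncomputable def glue : Cochain c.pt Y (-1) :=
  Cochain.mk (fun p q hpq =>
    (isColimitOfPreserves (HomologicalComplex.eval (ModuleCat.{u} R) (ComplexShape.up ℤ) p)
      hc).desc (glueCocone D c hext h0 g p q hpq))

theorem cι_glue (k : ℕ) (p q : ℤ) (hpq : p + (-1) = q) :
    (cι D c k).f p ≫ (glue D c hc hext h0 g).v p q hpq = (hseq D c hext h0 g k).1.v p q hpq :=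
  (isColimitOfPreserves (HomologicalComplex.eval (ModuleCat.{u} R) (ComplexShape.up ℤ) p)
      hc).fac (glueCocone D c hext h0 g p q hpq) k

theorem δ_glue : δ (-1) 0 (glue D c hc hext h0 g) = Cochain.ofHom g := by
  refine Cochain.ext _ _ (fun p q hpq => ?_)
  obtain rfl : p = q := by omega
  apply (isColimitOfPreserves (HomologicalComplex.eval (ModuleCat.{u} R) (ComplexShape.up ℤ) p)
      hc).hom_ext
  intro k
  show (cι D c k).f p ≫ _ = (cι D c k).f p ≫ _
  rw [δ_v (-1) 0 (neg_add_cancel 1) _ p p (add_zero p) (p - 1) (p + 1) rfl rfl]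
  have h1 := Cochain.congr_v (hseq D c hext h0 g k).2 p p (add_zero p)
  rw [δ_v (-1) 0 (neg_add_cancel 1) _ p p (add_zero p) (p - 1) (p + 1) rfl rfl] at h1
  simp only [Preadditive.comp_add, Linear.comp_units_smul, Cochain.ofHom_v] at h1 ⊢
  rw [← Category.assoc, cι_glue, HomologicalComplex.Hom.comm_assoc, cι_glue, h1]
  rfl

end KProjColim

section Main

/-- a sequential colimit of complexes is K-projective as soon as null-homotopies extend along the
transition maps -/
theorem isKProjective_of_colimit (D : ℕ ⥤ CochainComplex (ModuleCat.{u} R) ℤ) (c : Cocone D)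
    (hc : IsColimit c)
    (hext : ∀ (Y : CochainComplex (ModuleCat.{u} R) ℤ), Y.Acyclic →
      ∀ (k : ℕ) (g : D.obj (k + 1) ⟶ Y) (h : Cochain (D.obj k) Y (-1)),
      δ (-1) 0 h = Cochain.ofHom (tr D k ≫ g) →
      ∃ h' : Cochain (D.obj (k + 1)) Y (-1), δ (-1) 0 h' = Cochain.ofHom g ∧
        (Cochain.ofHom (tr D k)).comp h' (zero_add (-1)) = h)
    (h0 : ∀ (Y : CochainComplex (ModuleCat.{u} R) ℤ), Y.Acyclic →
      ∀ g : D.obj 0 ⟶ Y, ∃ h : Cochain (D.obj 0) Y (-1), δ (-1) 0 h = Cochain.ofHom g) :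
    c.pt.IsKProjective where
  nonempty_homotopy_zero {Y} g hY :=
    ⟨(Cochain.equivHomotopy g 0).symm ⟨glue D c hc (hext Y hY) (h0 Y hY) g, by
      rw [δ_glue]; simp⟩⟩

variable (X : CochainComplex (ModuleCat.{u} R) ℤ)

/-- a stage of the construction -/
structure Stage where
  /-- the complex -/
  P : CochainComplex (ModuleCat.{u} R) ℤ
  /-- the map to `X` -/
  f : P ⟶ X

variable {X}

/-- attaching cells -/
noncomputable def Stage.next (s : Stage X) : Stage X := ⟨nextCx s.f, nextMap s.f⟩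

variable (X)

/-- the sequence of stages -/
noncomputable def stage : ℕ → Stage X
  | 0 => ⟨0, 0⟩
  | k + 1 => (stage k).next

/-- the transition maps -/
noncomputable def stageι (k : ℕ) : (stage X k).P ⟶ (stage X (k + 1)).P := nextι (stage X k).f

theorem stageι_f (k : ℕ) : stageι X k ≫ (stage X (k + 1)).f = (stage X k).f :=
  nextι_nextMap _

/-- the diagram of stages -/
noncomputable def stageD : ℕ ⥤ CochainComplex (ModuleCat.{u} R) ℤ :=
  Functor.ofSequence (stageι X)

/-- the cocone with point `X` -/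
noncomputable def stageCocone : Cocone (stageD X) where
  pt := X
  ι := NatTrans.ofSequence (fun k => (stage X k).f) (fun k => by
    have h1 : (stageD X).map (homOfLE (Nat.le_add_right k 1)) = stageι X k :=
      Functor.ofSequence_map_homOfLE_succ _ k
    rw [h1]
    exact (stageι_f X k).trans (Category.comp_id _).symm)

/-- the K-projective resolution -/
noncomputable def res : CochainComplex (ModuleCat.{u} R) ℤ := colimit (stageD X)

/-- the resolution map -/
noncomputable def resMap : res X ⟶ X := colimit.desc (stageD X) (stageCocone X)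

theorem stageD_map_succ (k : ℕ) :
    (stageD X).map (homOfLE (Nat.le_add_right k 1)) = stageι X k :=
  Functor.ofSequence_map_homOfLE_succ _ k

theorem cι_resMap (k : ℕ) :
    cι (stageD X) (colimit.cocone (stageD X)) k ≫ resMap X = (stage X k).f :=
  colimit.ι_desc _ _

instance quasiIso_resMap : QuasiIso (resMap X) := by
  refine quasiIso_of_colimit (stageD X) (colimit.cocone (stageD X)) (colimit.isColimit _)
    (resMap X) ?_ ?_
  · intro k n y x hy hx
    rw [cι_resMap] at hx
    obtain ⟨w, hw⟩ := exists_d_eq_nextι (stage X k).f n y x hy hx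
    refine ⟨w, ?_⟩
    rw [stageD_map_succ]
    exact hw
  · intro n x hx
    obtain ⟨y, hy1, hy2⟩ := exists_cycle_nextMap_eq (stage X 0).f n x hx
    refine ⟨1, y, hy1, ?_⟩
    rw [cι_resMap]
    exact hy2

instance isKProjective_res : (res X).IsKProjective := by
  refine isKProjective_of_colimit (stageD X) (colimit.cocone (stageD X)) (colimit.isColimit _)
    ?_ ?_
  · intro Y hY k g h hh
    have htr : tr (stageD X) k = inr (cellMap (stage X k).f) := stageD_map_succ X k
    rw [htr] at hh ⊢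
    refine exists_extension (cellMap (stage X k).f) ?_ g h hh
    intro z hz
    exact exists_δ_eq_of_d_eq_zero (cellCx (stage X k).f) Y (cellCx_d _) hY (-1) (-2) (by simp)
      z (by simpa using hz)
  · intro Y hY g
    refine ⟨0, ?_⟩
    have : g = 0 := (isZero_zero _).eq_of_src _ _
    rw [this]
    simp

/-- **Spaltenstein**: every complex of modules admits a K-projective resolution. -/
theorem exists_kprojective_resolution (X : CochainComplex (ModuleCat.{u} R) ℤ) :
    ∃ (P : CochainComplex (ModuleCat.{u} R) ℤ) (f : P ⟶ X), P.IsKProjective ∧ QuasiIso f :=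
  ⟨res X, resMap X, inferInstance, inferInstance⟩

end Main

end Groth.Agent.Lib.Helper5.KProj
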