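import Mathlib

/-!
# Left derived functors computed on a class of adapted objects (helper5)

`W` has a right calculus of fractions and the of-postcomp property, `P` is a class of objects such that every
object receives a `W`-morphism from an object of `P` and `F` inverts `W`-morphisms between objects
of `P`.  Then `F` has a pointwise left derived functor and the counit is invertible on `P`.
-/
set_option autoImplicit false
set_option linter.unusedSectionVars false
set_option linter.unusedVariables false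
set_option linter.style.haveILetI false
universe w v u
open CategoryTheory Limits

namespace Groth.Agent.Lib.Helper5.KProj.PtKan2

variable {C D H : Type*} [Category C] [Category D] [Category H] (L : C ⥤ D) (F : C ⥤ H)
  (W : MorphismProperty C) [L.IsLocalization W] [W.HasRightCalculusOfFractions]
  [W.HasOfPostcompProperty W] (P : C → Prop)

/-- the class `P` is adapted to `F` -/
structure Adapted : Prop where
  res : ∀ X : C, ∃ (Y : C) (s : Y ⟶ X), P Y ∧ W s
  inv : ∀ {Y Y' : C} (s : Y ⟶ Y'), P Y → P Y' → W s → IsIso (F.map s)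

variable {L F W P}

/-- a roof with adapted apex representing a morphism of the localized category -/
structure Roof {X Y : C} (u : L.obj X ⟶ L.obj Y) where
  X' : C
  s : X' ⟶ X
  hs : W s
  hX' : P X'
  f : X' ⟶ Y
  fac : L.map s ≫ u = L.map f

variable (hA : Adapted F W P) {X : C} (hX : P X)

include hA hX in
lemma Roof.isIso_map_s {Y : C} {u : L.obj X ⟶ L.obj Y} (r : Roof (W := W) (P := P) u) :
    IsIso (F.map r.s) := hA.inv r.s r.hX' hX r.hs

/-- the value of a roof -/
noncomputable def Roof.val {Y : C} {u : L.obj X ⟶ L.obj Y} (r : Roof (W := W) (P := P) u) :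
    F.obj X ⟶ F.obj Y :=
  @inv _ _ _ _ (F.map r.s) (r.isIso_map_s hA hX) ≫ F.map r.f

include hA in
lemma exists_roof {Y : C} (u : L.obj X ⟶ L.obj Y) : Nonempty (Roof (W := W) (P := P) u) := by
  obtain ⟨φ, hφ⟩ := Localization.exists_rightFraction L W u
  obtain ⟨Z, t, hZ, ht⟩ := hA.res φ.X'
  refine ⟨⟨Z, t ≫ φ.s, W.comp_mem _ _ ht φ.hs, hZ, t ≫ φ.f, ?_⟩⟩
  rw [hφ, L.map_comp, L.map_comp, Category.assoc, φ.map_s_comp_map]

lemma val_eq {Y : C} {u : L.obj X ⟶ L.obj Y} (r₁ r₂ : Roof (W := W) (P := P) u) :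
    r₁.val hA hX = r₂.val hA hX := by
  let φ₁ : W.RightFraction X Y := ⟨r₁.s, r₁.hs, r₁.f⟩
  let φ₂ : W.RightFraction X Y := ⟨r₂.s, r₂.hs, r₂.f⟩
  have h₁ : φ₁.map L (Localization.inverts L W) = u := by
    haveI : IsIso (L.map r₁.s) := Localization.inverts L W _ r₁.hs
    rw [← cancel_epi (L.map r₁.s)]
    exact (φ₁.map_s_comp_map L _).trans r₁.fac.symm
  have h₂ : φ₂.map L (Localization.inverts L W) = u := by
    haveI : IsIso (L.map r₂.s) := Localization.inverts L W _ r₂.hs
    rw [← cancel_epi (L.map r₂.s)]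
    exact (φ₂.map_s_comp_map L _).trans r₂.fac.symm
  obtain ⟨Z, t₁, t₂, hst, hft, ht⟩ :=
    (MorphismProperty.RightFraction.map_eq_iff L W φ₁ φ₂).1 (h₁.trans h₂.symm)
  change t₁ ≫ r₁.s = t₂ ≫ r₂.s at hst
  change t₁ ≫ r₁.f = t₂ ≫ r₂.f at hft
  change W (t₁ ≫ r₁.s) at ht
  obtain ⟨Z', r, hZ', hr⟩ := hA.res Z
  have hW₁ : W ((r ≫ t₁) ≫ r₁.s) := by
    rw [Category.assoc]; exact W.comp_mem _ _ hr ht
  have hW₂ : W ((r ≫ t₂) ≫ r₂.s) := by
    rw [Category.assoc, ← hst, ← Category.assoc]; exact hW₁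
  have ha : W (r ≫ t₁) := W.of_postcomp _ _ r₁.hs hW₁
  have hb : W (r ≫ t₂) := W.of_postcomp _ _ r₂.hs hW₂
  haveI i₁ : IsIso (F.map r₁.s) := r₁.isIso_map_s hA hX
  haveI i₂ : IsIso (F.map r₂.s) := r₂.isIso_map_s hA hX
  haveI ia : IsIso (F.map (r ≫ t₁)) := hA.inv _ hZ' r₁.hX' ha
  haveI ib : IsIso (F.map (r ≫ t₂)) := hA.inv _ hZ' r₂.hX' hb
  haveI : IsIso (F.map ((r ≫ t₁) ≫ r₁.s)) := by rw [F.map_comp]; infer_instance
  have e₁ : F.map ((r ≫ t₁) ≫ r₁.s) ≫ r₁.val hA hX = F.map ((r ≫ t₁) ≫ r₁.f) := by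
    dsimp only [Roof.val]
    rw [F.map_comp, Category.assoc, IsIso.hom_inv_id_assoc, ← F.map_comp]
  have e₂ : F.map ((r ≫ t₁) ≫ r₁.s) ≫ r₂.val hA hX = F.map ((r ≫ t₁) ≫ r₁.f) := by
    have h1 : (r ≫ t₁) ≫ r₁.s = (r ≫ t₂) ≫ r₂.s := by
      rw [Category.assoc, Category.assoc, hst]
    have h2 : (r ≫ t₁) ≫ r₁.f = (r ≫ t₂) ≫ r₂.f := by
      rw [Category.assoc, Category.assoc, hft]
    rw [h1, h2]
    dsimp only [Roof.val]
    rw [F.map_comp, Category.assoc, IsIso.hom_inv_id_assoc, ← F.map_comp]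
  exact (cancel_epi (F.map ((r ≫ t₁) ≫ r₁.s))).1 (e₁.trans e₂.symm)

/-- the identity roof -/
def Roof.id (X : C) (hX : P X) :
    Roof (L := L) (W := W) (P := P) (𝟙 (L.obj X)) :=
  ⟨X, 𝟙 X, W.id_mem X, hX, 𝟙 X, by simp⟩

/-- a chosen roof -/
noncomputable def roof (Y : StructuredArrow (L.obj X) L) : Roof (W := W) (P := P) Y.hom :=
  (exists_roof hA Y.hom).some

/-- the limit cone with point `F X` -/
noncomputable def cone : Cone (StructuredArrow.proj (L.obj X) L ⋙ F) where
  pt := F.obj X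
  π :=
    { app := fun Y => (roof hA Y).val hA hX
      naturality := fun Y Y' g => by
        let r := roof (X := X) hA Y
        let r' : Roof (W := W) (P := P) Y'.hom :=
          ⟨r.X', r.s, r.hs, r.hX', r.f ≫ g.right, by
            rw [L.map_comp, ← r.fac, Category.assoc]
            congr 1
            exact (StructuredArrow.w g).symm⟩
        have h : (roof hA Y').val hA hX = r'.val hA hX := val_eq hA hX _ _
        show 𝟙 _ ≫ (roof hA Y').val hA hX = (roof hA Y).val hA hX ≫ F.map g.right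
        rw [Category.id_comp, h]
        dsimp only [Roof.val]
        rw [F.map_comp, Category.assoc] }

lemma val_id : (Roof.id (L := L) (W := W) X hX).val hA hX = 𝟙 _ := by
  dsimp only [Roof.val, Roof.id]
  rw [IsIso.inv_comp_eq, Category.comp_id]

/-- it is a limit cone -/
noncomputable def isLimitCone : IsLimit (cone (L := L) hA hX) where
  lift s := s.π.app (StructuredArrow.mk (𝟙 (L.obj X)))
  fac s Y := by
    let r := roof (X := X) hA Y
    haveI : IsIso (L.map r.s) := Localization.inverts L W _ r.hs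
    haveI : IsIso (F.map r.s) := r.isIso_map_s hA hX
    -- the apex of the roof as a structured arrow
    let Z : StructuredArrow (L.obj X) L := StructuredArrow.mk (inv (L.map r.s))
    let a : Z ⟶ Y := StructuredArrow.homMk r.f (by
      show inv (L.map r.s) ≫ L.map r.f = Y.hom
      rw [IsIso.inv_comp_eq]; exact r.fac.symm)
    let b : Z ⟶ StructuredArrow.mk (𝟙 (L.obj X)) := StructuredArrow.homMk r.s (by
      show inv (L.map r.s) ≫ L.map r.s = 𝟙 _
      rw [IsIso.inv_hom_id])
    obtain ⟨p, hp⟩ : ∃ p : s.pt ⟶ F.obj r.X', p = s.π.app Z := ⟨_, rfl⟩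
    have ha : p ≫ F.map r.f = s.π.app Y := by rw [hp]; exact s.w a
    have hb : p ≫ F.map r.s = s.π.app (StructuredArrow.mk (𝟙 (L.obj X))) := by
      rw [hp]; exact s.w b
    have hi : IsIso (F.map r.s) := r.isIso_map_s hA hX
    have key : (p ≫ F.map r.s) ≫ (@inv _ _ _ _ (F.map r.s) hi ≫ F.map r.f) = p ≫ F.map r.f := by
      rw [Category.assoc, IsIso.hom_inv_id_assoc]
    show (s.π.app (StructuredArrow.mk (𝟙 (L.obj X))) : s.pt ⟶ F.obj X) ≫
      (@inv _ _ _ _ (F.map r.s) hi ≫ F.map r.f) = s.π.app Y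
    exact (congrArg (fun q : s.pt ⟶ F.obj X => q ≫ (@inv _ _ _ _ (F.map r.s) hi ≫ F.map r.f))
      hb).symm.trans (key.trans ha)
  uniq s m hm := by
    have h := hm (StructuredArrow.mk (𝟙 (L.obj X)))
    have h2 : (cone (L := L) hA hX).π.app (StructuredArrow.mk (𝟙 (L.obj X))) = 𝟙 _ :=
      (val_eq hA hX _ (Roof.id (L := L) (W := W) X hX)).trans (val_id hA hX)
    rw [h2] at h
    exact (Category.comp_id m).symm.trans h

include hA hX in
theorem hasPointwiseRightKanExtensionAt : Functor.HasPointwiseRightKanExtensionAt L F (L.obj X) :=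
  ⟨⟨_, isLimitCone hA hX⟩⟩

include hA hX in
/-- the counit of a pointwise right Kan extension is invertible at an adapted object -/
theorem isIso_app (LF : D ⥤ H) (α : L ⋙ LF ⟶ F)
    (hpt : (Functor.RightExtension.mk LF α).IsPointwiseRightKanExtensionAt (L.obj X)) :
    IsIso (α.app X) := by
  let e := hpt.conePointUniqueUpToIso (isLimitCone hA hX)
  have h := hpt.conePointUniqueUpToIso_hom_comp (isLimitCone hA hX)
    (StructuredArrow.mk (𝟙 (L.obj X)))
  have h2 : ((Functor.RightExtension.mk LF α).coneAt (L.obj X)).π.app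
      (StructuredArrow.mk (𝟙 (L.obj X))) = LF.map (𝟙 _) ≫ α.app X := rfl
  have h3 : (cone (L := L) hA hX).π.app (StructuredArrow.mk (𝟙 (L.obj X))) = 𝟙 _ :=
    (val_eq hA hX _ (Roof.id (L := L) (W := W) X hX)).trans (val_id hA hX)
  rw [h2, CategoryTheory.Functor.map_id, Category.id_comp, h3] at h
  have h4 : e.hom = α.app X := (Category.comp_id e.hom).symm.trans h
  rw [← h4]
  infer_instance

variable (L)

include L hA in
theorem hasPointwiseLeftDerivedFunctor : F.HasPointwiseLeftDerivedFunctor W := by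
  intro X
  obtain ⟨Y, f, hY, hf⟩ := hA.res X
  rw [← F.hasPointwiseLeftDerivedFunctorAt_iff_of_mem _ f hf,
    F.hasPointwiseLeftDerivedFunctorAt_iff L W]
  exact hasPointwiseRightKanExtensionAt hA hY

include L hA in
theorem hasLeftDerivedFunctor : F.HasLeftDerivedFunctor W := by
  have := hasPointwiseLeftDerivedFunctor L hA
  infer_instance

include hA hX in
/-- the counit of a left derived functor is invertible at adapted objects -/
theorem isIso_counit_app (LF : D ⥤ H) (α : L ⋙ LF ⟶ F) [LF.IsLeftDerivedFunctor α W] :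
    IsIso (α.app X) := by
  have := hasPointwiseLeftDerivedFunctor L hA
  exact isIso_app hA hX LF α
    (Functor.isPointwiseRightKanExtensionOfHasPointwiseLeftDerivedFunctor (F' := LF) (α := α) W
      (L.obj X))

end Groth.Agent.Lib.Helper5.KProj.PtKan2
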