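import Mathlib
import Groth.Agent.Lib.Helper5.KProj.PtKan2

/-!
# Left derived functors of termwise functors via adapted complexes (helper5)
-/
set_option autoImplicit false
set_option linter.unusedSectionVars false
set_option linter.unusedVariables false
set_option linter.style.haveILetI false
universe w w' v v' u u'
open CategoryTheory Limits

namespace Groth.Agent.Lib.Helper5.KProj.DerHo

open Groth.Agent.Lib.Helper5.KProj.PtKan2

section

variable (A : Type u) [Category.{v} A] [Abelian A]

instance hasOfPostcomp_quasiIso :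
    (HomotopyCategory.quasiIso A (ComplexShape.up ℤ)).HasOfPostcompProperty
      (HomotopyCategory.quasiIso A (ComplexShape.up ℤ)) where
  of_postcomp f g hg hfg := by
    rw [HomotopyCategory.mem_quasiIso_iff] at hg hfg ⊢
    intro n
    have h1 := hfg n
    have h2 := hg n
    rw [Functor.map_comp] at h1
    exact IsIso.of_isIso_comp_right _ ((HomotopyCategory.homologyFunctor A (ComplexShape.up ℤ) n).map g)

end

variable {A : Type u} [Category.{v} A] [Abelian A] [HasDerivedCategory.{w} A]
  {B : Type u'} [Category.{v'} B] [Abelian B] [HasDerivedCategory.{w'} B]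
  (G : A ⥤ B) [G.Additive] (KF : CochainComplex A ℤ → Prop)

/-- the functor `K(A) ⥤ D(B)` induced by `G` -/
noncomputable abbrev Fh : HomotopyCategory A (ComplexShape.up ℤ) ⥤ DerivedCategory B :=
  G.mapHomotopyCategory (ComplexShape.up ℤ) ⋙ DerivedCategory.Qh

/-- `KF` is adapted to `G` -/
structure AdaptedCx : Prop where
  res : ∀ K : CochainComplex A ℤ, ∃ (K' : CochainComplex A ℤ) (q : K' ⟶ K), KF K' ∧ QuasiIso q
  inv : ∀ {K K' : CochainComplex A ℤ} (f : K ⟶ K'), KF K → KF K' → QuasiIso f →
    QuasiIso ((G.mapHomologicalComplex (ComplexShape.up ℤ)).map f)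

variable {G KF}

theorem adapted (h : AdaptedCx G KF) :
    Adapted (Fh G) (HomotopyCategory.quasiIso A (ComplexShape.up ℤ)) (fun X => KF X.as) where
  res := by
    rintro ⟨K⟩
    obtain ⟨K', q, hK', hq⟩ := h.res K
    refine ⟨(HomotopyCategory.quotient A (ComplexShape.up ℤ)).obj K',
      (HomotopyCategory.quotient A (ComplexShape.up ℤ)).map q, hK', ?_⟩
    exact (HomotopyCategory.quotient_map_mem_quasiIso_iff q).2 hq
  inv := by
    rintro ⟨K⟩ ⟨K'⟩ s hK hK' hs
    obtain ⟨f, rfl⟩ := (HomotopyCategory.quotient A (ComplexShape.up ℤ)).map_surjective s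
    have hs' : QuasiIso f := (HomotopyCategory.quotient_map_mem_quasiIso_iff f).1 hs
    have hq : QuasiIso ((G.mapHomologicalComplex (ComplexShape.up ℤ)).map f) := h.inv f hK hK' hs'
    have h1 : IsIso (DerivedCategory.Q.map ((G.mapHomologicalComplex (ComplexShape.up ℤ)).map f)) :=
      (DerivedCategory.isIso_Q_map_iff_quasiIso B _).2 hq
    exact h1

theorem hasLeftDerivedFunctor (h : AdaptedCx G KF) :
    (Fh G).HasLeftDerivedFunctor (HomotopyCategory.quasiIso A (ComplexShape.up ℤ)) :=
  PtKan2.hasLeftDerivedFunctor DerivedCategory.Qh (adapted h)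

theorem isIso_counit_app (h : AdaptedCx G KF) (LF : DerivedCategory A ⥤ DerivedCategory B)
    (α : DerivedCategory.Qh ⋙ LF ⟶ Fh G)
    [LF.IsLeftDerivedFunctor α (HomotopyCategory.quasiIso A (ComplexShape.up ℤ))]
    (K : CochainComplex A ℤ) (hK : KF K) :
    IsIso (α.app ((HomotopyCategory.quotient A (ComplexShape.up ℤ)).obj K)) :=
  PtKan2.isIso_counit_app (P := fun X => KF X.as) DerivedCategory.Qh (adapted h) hK LF α

/-- the value of a left derived functor on an adapted complex -/
noncomputable def objIso (h : AdaptedCx G KF) (LF : DerivedCategory A ⥤ DerivedCategory B)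
    (α : DerivedCategory.Qh ⋙ LF ⟶ Fh G)
    [LF.IsLeftDerivedFunctor α (HomotopyCategory.quasiIso A (ComplexShape.up ℤ))]
    (K : CochainComplex A ℤ) (hK : KF K) :
    LF.obj (DerivedCategory.Q.obj K) ≅
      DerivedCategory.Q.obj ((G.mapHomologicalComplex (ComplexShape.up ℤ)).obj K) :=
  @asIso _ _ _ _ (α.app ((HomotopyCategory.quotient A (ComplexShape.up ℤ)).obj K))
    (isIso_counit_app h LF α K hK)

/-- the value of the total left derived functor on an adapted complex -/
noncomputable def totalObjIso (h : AdaptedCx G KF)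
    [(Fh G).HasLeftDerivedFunctor (HomotopyCategory.quasiIso A (ComplexShape.up ℤ))]
    (K : CochainComplex A ℤ) (hK : KF K) :
    ((Fh G).totalLeftDerived DerivedCategory.Qh
      (HomotopyCategory.quasiIso A (ComplexShape.up ℤ))).obj (DerivedCategory.Q.obj K) ≅
      DerivedCategory.Q.obj ((G.mapHomologicalComplex (ComplexShape.up ℤ)).obj K) :=
  objIso h _ ((Fh G).totalLeftDerivedCounit DerivedCategory.Qh
      (HomotopyCategory.quasiIso A (ComplexShape.up ℤ))) K hK

end Groth.Agent.Lib.Helper5.KProj.DerHo
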