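import Mathlib

set_option autoImplicit false
universe w v u
open CategoryTheory Limits

namespace Groth.Agent.Lib.Helper5.KProj

section General

variable {C : Type u} [Category.{v} C] [Abelian C] [HasDerivedCategory.{w} C]
  {H : Type*} [Category H]

open DerivedCategory

/-- every complex has a K-projective resolution -/
def HasKProjRes (C : Type u) [Category.{v} C] [Abelian C] : Prop :=
  ∀ X : CochainComplex C ℤ, ∃ (P : CochainComplex C ℤ) (f : P ⟶ X), P.IsKProjective ∧ QuasiIso f

/-- For K-projective `P`, the identity is initial in the category of structured arrows. -/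
noncomputable def isInitialMk (P : CochainComplex C ℤ) [P.IsKProjective] :
    IsInitial (StructuredArrow.mk (𝟙 (Qh.obj ((HomotopyCategory.quotient C (ComplexShape.up ℤ)).obj P))) :
      StructuredArrow (Qh.obj ((HomotopyCategory.quotient C (ComplexShape.up ℤ)).obj P)) Qh) := by
  refine IsInitial.ofUniqueHom (fun Y => ?_) (fun Y m => ?_)
  · exact StructuredArrow.homMk
      ((CochainComplex.IsKProjective.Qh_map_bijective P Y.right).2 Y.hom).choose
      (by
        have := ((CochainComplex.IsKProjective.Qh_map_bijective P Y.right).2 Y.hom).choose_spec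
        simpa using this)
  · apply StructuredArrow.hom_ext
    apply (CochainComplex.IsKProjective.Qh_map_bijective P Y.right).1
    have h1 := ((CochainComplex.IsKProjective.Qh_map_bijective P Y.right).2 Y.hom).choose_spec
    have h2 := StructuredArrow.w m
    simp only [StructuredArrow.mk_hom_eq_self, Category.id_comp] at h2
    simp only [StructuredArrow.homMk_right]
    rw [h1, h2]

variable (F : HomotopyCategory C (ComplexShape.up ℤ) ⥤ H)

theorem hasPointwiseRightKanExtensionAt_of_isKProjective (P : CochainComplex C ℤ)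
    [P.IsKProjective] :
    Functor.HasPointwiseRightKanExtensionAt Qh F
      (Qh.obj ((HomotopyCategory.quotient C (ComplexShape.up ℤ)).obj P)) :=
  ⟨⟨_, limitOfDiagramInitial (isInitialMk P) _⟩⟩

theorem hasPointwiseLeftDerivedFunctor (hC : HasKProjRes C) :
    F.HasPointwiseLeftDerivedFunctor (HomotopyCategory.quasiIso C (ComplexShape.up ℤ)) := by
  intro X
  obtain ⟨X, rfl⟩ := HomotopyCategory.quotient_obj_surjective X
  obtain ⟨P, f, hP, hf⟩ := hC X
  rw [← F.hasPointwiseLeftDerivedFunctorAt_iff_of_mem _
    ((HomotopyCategory.quotient C (ComplexShape.up ℤ)).map f)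
    ((HomotopyCategory.quotient_map_mem_quasiIso_iff f).2
      ((HomologicalComplex.mem_quasiIso_iff f).2 hf)),
    F.hasPointwiseLeftDerivedFunctorAt_iff Qh]
  exact hasPointwiseRightKanExtensionAt_of_isKProjective F P

/-- The value of a left derived functor on a K-projective complex. -/
theorem isIso_app_of_isKProjective (hC : HasKProjRes C) (LF : DerivedCategory C ⥤ H)
    (α : Qh ⋙ LF ⟶ F)
    [LF.IsLeftDerivedFunctor α (HomotopyCategory.quasiIso C (ComplexShape.up ℤ))]
    (P : CochainComplex C ℤ) [P.IsKProjective] :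
    IsIso (α.app ((HomotopyCategory.quotient C (ComplexShape.up ℤ)).obj P)) := by
  have := hasPointwiseLeftDerivedFunctor F hC
  have hpt := Functor.isPointwiseRightKanExtensionOfHasPointwiseLeftDerivedFunctor
    (F' := LF) (α := α) (HomotopyCategory.quasiIso C (ComplexShape.up ℤ))
  have h1 := IsLimit.isIso_π_app_of_isInitial
    (hpt (Qh.obj ((HomotopyCategory.quotient C (ComplexShape.up ℤ)).obj P))) _ (isInitialMk P)
  have h2 : ((Functor.RightExtension.mk LF α).coneAt
      (Qh.obj ((HomotopyCategory.quotient C (ComplexShape.up ℤ)).obj P))).π.app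
      (StructuredArrow.mk (𝟙 (Qh.obj ((HomotopyCategory.quotient C (ComplexShape.up ℤ)).obj P)))) =
      LF.map (𝟙 _) ≫ α.app ((HomotopyCategory.quotient C (ComplexShape.up ℤ)).obj P) := rfl
  rw [h2, CategoryTheory.Functor.map_id, Category.id_comp] at h1
  exact h1

end General

section Additive

universe w' v' u'

variable {C : Type u} [Category.{v} C] [Abelian C] [HasDerivedCategory.{w} C]
  {C' : Type u'} [Category.{v'} C'] [Abelian C'] [HasDerivedCategory.{w'} C']
  (G : C ⥤ C') [G.Additive]

open DerivedCategory

/-- the functor `K(C) ⥤ D(C')` induced by `G` -/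
noncomputable abbrev Kh : HomotopyCategory C (ComplexShape.up ℤ) ⥤ DerivedCategory C' :=
  G.mapHomotopyCategory (ComplexShape.up ℤ) ⋙ Qh

/-- existence of the total left derived functor of `G` -/
abbrev HasL : Prop :=
  (Kh G).HasLeftDerivedFunctor (HomotopyCategory.quasiIso C (ComplexShape.up ℤ))

/-- the total left derived functor of `G` -/
noncomputable abbrev L [HasL G] : DerivedCategory C ⥤ DerivedCategory C' :=
  (Kh G).totalLeftDerived Qh (HomotopyCategory.quasiIso C (ComplexShape.up ℤ))

/-- the counit -/
noncomputable abbrev Lε [HasL G] : Qh ⋙ L G ⟶ Kh G :=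
  (Kh G).totalLeftDerivedCounit Qh (HomotopyCategory.quasiIso C (ComplexShape.up ℤ))

/-- the comparison `LG(Q P) ⟶ Q (G P)` -/
noncomputable def cmp [HasL G] : Q ⋙ L G ⟶ G.mapHomologicalComplex (ComplexShape.up ℤ) ⋙ Q where
  app P := (Lε G).app ((HomotopyCategory.quotient C (ComplexShape.up ℤ)).obj P) ≫
    Qh.map ((G.mapHomotopyCategoryFactors (ComplexShape.up ℤ)).hom.app P)
  naturality P P' f := by
    have h1 := (Lε G).naturality ((HomotopyCategory.quotient C (ComplexShape.up ℤ)).map f)
    have h2 := (G.mapHomotopyCategoryFactors (ComplexShape.up ℤ)).hom.naturality f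
    dsimp at h1 h2
    show (L G).map (Qh.map ((HomotopyCategory.quotient C (ComplexShape.up ℤ)).map f)) ≫
      (Lε G).app ((HomotopyCategory.quotient C (ComplexShape.up ℤ)).obj P') ≫
        Qh.map ((G.mapHomotopyCategoryFactors (ComplexShape.up ℤ)).hom.app P') =
      ((Lε G).app ((HomotopyCategory.quotient C (ComplexShape.up ℤ)).obj P) ≫
        Qh.map ((G.mapHomotopyCategoryFactors (ComplexShape.up ℤ)).hom.app P)) ≫
      Qh.map ((HomotopyCategory.quotient C' (ComplexShape.up ℤ)).map
        ((G.mapHomologicalComplex (ComplexShape.up ℤ)).map f))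
    rw [reassoc_of% h1, Category.assoc, ← Qh.map_comp, ← Qh.map_comp, h2]

theorem isIso_cmp_app [HasL G] (hC : HasKProjRes C) (P : CochainComplex C ℤ) [P.IsKProjective] :
    IsIso ((cmp G).app P) := by
  have h1 : IsIso ((Lε G).app ((HomotopyCategory.quotient C (ComplexShape.up ℤ)).obj P)) :=
    isIso_app_of_isKProjective (Kh G) hC (L G) (Lε G) P
  have h2 : IsIso (Qh.map ((G.mapHomotopyCategoryFactors (ComplexShape.up ℤ)).hom.app P)) :=
    inferInstance
  exact IsIso.comp_isIso' h1 h2

end Additive

end Groth.Agent.Lib.Helper5.KProj
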