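import Mathlib
import Groth.Agent.Lib.Helper5.KProj.Derived
import Groth.Agent.Lib.Helper3.AdjHtpyPlus

set_option autoImplicit false
universe w v u
open CategoryTheory Limits

namespace Groth.Agent.Lib.Helper5.KProj

section General

variable {C : Type u} [Category.{v} C] [Abelian C] [HasDerivedCategory.{w} C]
  {H : Type*} [Category H]

open DerivedCategory

/-- every object of the derived category is the image of a K-projective complex -/
theorem exists_iso_Qh_kproj (hC : HasKProjRes C) (Y : DerivedCategory C) :
    ∃ (P : CochainComplex C ℤ) (_ : P.IsKProjective),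
      Nonempty (Y ≅ Qh.obj ((HomotopyCategory.quotient C (ComplexShape.up ℤ)).obj P)) := by
  obtain ⟨P, f, hP, hf⟩ := hC (Q.objPreimage Y)
  exact ⟨P, hP, ⟨(Q.objObjPreimageIso Y).symm ≪≫ (asIso (Q.map f)).symm⟩⟩

variable (F : HomotopyCategory C (ComplexShape.up ℤ) ⥤ H)

/-- a functor with a comparison map which is invertible on K-projectives is the left derived functor -/
theorem isLeftDerivedFunctor_of_isIso (hC : HasKProjRes C) (G : DerivedCategory C ⥤ H)
    (β : Qh ⋙ G ⟶ F)
    (hβ : ∀ (P : CochainComplex C ℤ) [P.IsKProjective],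
      IsIso (β.app ((HomotopyCategory.quotient C (ComplexShape.up ℤ)).obj P))) :
    G.IsLeftDerivedFunctor β (HomotopyCategory.quasiIso C (ComplexShape.up ℤ)) := by
  have := hasPointwiseLeftDerivedFunctor F hC
  let W := HomotopyCategory.quasiIso C (ComplexShape.up ℤ)
  let LF := F.totalLeftDerived Qh W
  let α : Qh ⋙ LF ⟶ F := F.totalLeftDerivedCounit Qh W
  rw [Functor.isLeftDerivedFunctor_iff_isIso_leftDerivedLift LF α W G β]
  have key : ∀ Y : DerivedCategory C, IsIso ((LF.leftDerivedLift α W G β).app Y) := by
    intro Y
    obtain ⟨P, hP, ⟨e⟩⟩ := exists_iso_Qh_kproj hC Y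
    rw [NatTrans.isIso_app_iff_of_iso _ e]
    have h1 := LF.leftDerived_fac_app α W G β ((HomotopyCategory.quotient C (ComplexShape.up ℤ)).obj P)
    have i1 : IsIso (α.app ((HomotopyCategory.quotient C (ComplexShape.up ℤ)).obj P)) :=
      isIso_app_of_isKProjective F hC LF α P
    have i2 := hβ P
    rw [← h1] at i2
    exact IsIso.of_isIso_comp_right _ (α.app ((HomotopyCategory.quotient C (ComplexShape.up ℤ)).obj P))
  exact NatIso.isIso_of_isIso_app _

end General

section Htpy

open Groth.Agent.Helper3.AdjHtpyPlus

variable {A : Type*} {B : Type*} [Category A] [Category B] [Preadditive A] [Preadditive B]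
  {L : A ⥤ B} {R : B ⥤ A} (adj : L ⊣ R) [L.Additive] [R.Additive]
  {ι : Type*} (c : ComplexShape ι)

/-- unit on the homotopy category -/
noncomputable def unitH (X : HomotopyCategory A c) :
    X ⟶ (R.mapHomotopyCategory c).obj ((L.mapHomotopyCategory c).obj X) :=
  (HomotopyCategory.quotient _ _).map (unitC adj c X.as)

/-- counit on the homotopy category -/
noncomputable def counitH (X : HomotopyCategory B c) :
    (L.mapHomotopyCategory c).obj ((R.mapHomotopyCategory c).obj X) ⟶ X :=
  (HomotopyCategory.quotient _ _).map (counitC adj c X.as)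

/-- The adjunction on homotopy categories induced by an adjunction of additive functors. -/
noncomputable def adjH : L.mapHomotopyCategory c ⊣ R.mapHomotopyCategory c :=
  Adjunction.mkOfUnitCounit
    { unit :=
        { app := unitH adj c
          naturality := fun X Y f => by
            obtain ⟨X, rfl⟩ := HomotopyCategory.quotient_obj_surjective X
            obtain ⟨Y, rfl⟩ := HomotopyCategory.quotient_obj_surjective Y
            obtain ⟨f, rfl⟩ := (HomotopyCategory.quotient A c).map_surjective f
            exact ((HomotopyCategory.quotient _ _).map_comp _ _).symm.trans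
              (((HomotopyCategory.quotient _ _).congr_map (unitC_naturality adj c f)).trans
                ((HomotopyCategory.quotient _ _).map_comp _ _)) }
      counit :=
        { app := counitH adj c
          naturality := fun X Y f => by
            obtain ⟨X, rfl⟩ := HomotopyCategory.quotient_obj_surjective X
            obtain ⟨Y, rfl⟩ := HomotopyCategory.quotient_obj_surjective Y
            obtain ⟨f, rfl⟩ := (HomotopyCategory.quotient B c).map_surjective f
            exact ((HomotopyCategory.quotient _ _).map_comp _ _).symm.trans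
              (((HomotopyCategory.quotient _ _).congr_map (counitC_naturality adj c f)).trans
                ((HomotopyCategory.quotient _ _).map_comp _ _)) }
      left_triangle := by
        ext X
        obtain ⟨X, rfl⟩ := HomotopyCategory.quotient_obj_surjective X
        dsimp
        rw [Category.id_comp]
        exact ((HomotopyCategory.quotient _ _).map_comp _ _).symm.trans
          (((HomotopyCategory.quotient _ _).congr_map (left_triangleC adj c X)).trans
            ((HomotopyCategory.quotient _ _).map_id _))
      right_triangle := by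
        ext X
        obtain ⟨X, rfl⟩ := HomotopyCategory.quotient_obj_surjective X
        dsimp
        rw [Category.id_comp]
        exact ((HomotopyCategory.quotient _ _).map_comp _ _).symm.trans
          (((HomotopyCategory.quotient _ _).congr_map (right_triangleC adj c X)).trans
            ((HomotopyCategory.quotient _ _).map_id _)) }

lemma adjH_unit_app (X : HomologicalComplex A c) :
    (adjH adj c).unit.app ((HomotopyCategory.quotient A c).obj X) =
      (HomotopyCategory.quotient _ _).map (unitC adj c X) := rfl

end Htpy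

section Derived

universe w' v' u'

variable {C : Type u} [Category.{v} C] [Abelian C] [HasDerivedCategory.{w} C]
  {C' : Type u'} [Category.{v'} C'] [Abelian C'] [HasDerivedCategory.{w'} C']
  {G : C ⥤ C'} {F : C' ⥤ C} [G.Additive] [F.Additive] [PreservesFiniteLimits F]
  [PreservesFiniteColimits F] (adj : G ⊣ F)

open DerivedCategory

variable (F) in
/-- the comparison for the exact functor `F` -/
noncomputable def βF : F.mapHomotopyCategory (ComplexShape.up ℤ) ⋙ Qh ⟶ Qh ⋙ F.mapDerivedCategory :=
  (F.mapDerivedCategoryFactorsh).inv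

instance : (F.mapDerivedCategory).IsRightDerivedFunctor (βF F)
    (HomotopyCategory.quasiIso C' (ComplexShape.up ℤ)) :=
  Functor.isRightDerivedFunctor_of_inverts _ _ (F.mapDerivedCategoryFactorsh)

theorem isLeft_aux [HasL G] (hC : HasKProjRes C) :
    (L G ⋙ F.mapDerivedCategory).IsLeftDerivedFunctor
      ((Functor.associator _ _ _).inv ≫ Functor.whiskerRight (Lε G) F.mapDerivedCategory)
      (HomotopyCategory.quasiIso C (ComplexShape.up ℤ)) := by
  refine isLeftDerivedFunctor_of_isIso _ hC _ _ (fun P _ => ?_)
  have := isIso_app_of_isKProjective (Kh G) hC (L G) (Lε G) P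
  dsimp
  rw [Category.id_comp]
  infer_instance

theorem isRight_aux [HasL G] :
    (F.mapDerivedCategory ⋙ L G).IsRightDerivedFunctor
      (Functor.whiskerRight (βF F) (L G) ≫ (Functor.associator _ _ _).hom)
      (HomotopyCategory.quasiIso C' (ComplexShape.up ℤ)) := by
  have hinv : (HomotopyCategory.quasiIso C' (ComplexShape.up ℤ)).IsInvertedBy
      (F.mapHomotopyCategory (ComplexShape.up ℤ) ⋙ Qh ⋙ L G) := by
    intro X Y f hf
    have h1 : IsIso (Qh.map f) := Localization.inverts Qh _ f hf
    have h2 : IsIso ((Qh ⋙ F.mapDerivedCategory).map f) := by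
      dsimp
      infer_instance
    have h3 : IsIso ((F.mapHomotopyCategory (ComplexShape.up ℤ) ⋙ Qh).map f) :=
      ((NatIso.isIso_map_iff (F.mapDerivedCategoryFactorsh) f)).1 h2
    dsimp at h3 ⊢
    infer_instance
  rw [Functor.isRightDerivedFunctor_iff_of_inverts _ _ hinv]
  have : IsIso (βF F) := by
    dsimp [βF]
    infer_instance
  infer_instance

/-- the derived adjunction `LG ⊣ F` for an adjunction `G ⊣ F` with `F` exact -/
noncomputable def derivedAdj [HasL G] (hC : HasKProjRes C) : L G ⊣ F.mapDerivedCategory :=
  haveI := isLeft_aux (G := G) (F := F) hC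
  haveI := isRight_aux (G := G) (F := F)
  (adjH adj (ComplexShape.up ℤ)).derived (HomotopyCategory.quasiIso C (ComplexShape.up ℤ))
    (HomotopyCategory.quasiIso C' (ComplexShape.up ℤ)) (Lε G) (βF F)

theorem derivedAdj_unit_fac [HasL G] (hC : HasKProjRes C) (K : CochainComplex C ℤ) :
    (derivedAdj adj hC).unit.app (Qh.obj ((HomotopyCategory.quotient C (ComplexShape.up ℤ)).obj K)) ≫
        F.mapDerivedCategory.map ((Lε G).app ((HomotopyCategory.quotient C (ComplexShape.up ℤ)).obj K)) =
      Qh.map ((HomotopyCategory.quotient C (ComplexShape.up ℤ)).map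
        (Groth.Agent.Helper3.AdjHtpyPlus.unitC adj (ComplexShape.up ℤ) K)) ≫
        (βF F).app ((G.mapHomotopyCategory (ComplexShape.up ℤ)).obj
          ((HomotopyCategory.quotient C (ComplexShape.up ℤ)).obj K)) := by
  haveI := isLeft_aux (G := G) (F := F) hC
  haveI := isRight_aux (G := G) (F := F)
  exact Adjunction.derivedη_fac_app (adjH adj (ComplexShape.up ℤ))
    (HomotopyCategory.quasiIso C (ComplexShape.up ℤ)) (Lε G) (βF F)
    ((HomotopyCategory.quotient C (ComplexShape.up ℤ)).obj K)

variable (F) in
theorem factorsh_hom_app_eq (K : CochainComplex C' ℤ) :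
    (F.mapDerivedCategoryFactorsh).hom.app ((HomotopyCategory.quotient C' (ComplexShape.up ℤ)).obj K) =
      (F.mapDerivedCategoryFactors).hom.app K := by
  rw [Functor.mapDerivedCategoryFactorsh_hom_app]
  have h1 : (DerivedCategory.quotientCompQhIso C').hom.app K = 𝟙 _ := rfl
  have h2 : (DerivedCategory.quotientCompQhIso C).inv.app
      ((F.mapHomologicalComplex (ComplexShape.up ℤ)).obj K) = 𝟙 _ := rfl
  have h3 : (F.mapHomotopyCategoryFactors (ComplexShape.up ℤ)).inv.app K = 𝟙 _ := rfl
  rw [h1, h2, h3]
  erw [CategoryTheory.Functor.map_id, CategoryTheory.Functor.map_id, Category.id_comp,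
    Category.id_comp, Category.comp_id]

variable (F) in
theorem factorsh_inv_app_eq (K : CochainComplex C' ℤ) :
    (F.mapDerivedCategoryFactorsh).inv.app ((HomotopyCategory.quotient C' (ComplexShape.up ℤ)).obj K) =
      (F.mapDerivedCategoryFactors).inv.app K := by
  rw [← cancel_epi ((F.mapDerivedCategoryFactorsh).hom.app
    ((HomotopyCategory.quotient C' (ComplexShape.up ℤ)).obj K)), Iso.hom_inv_id_app,
    factorsh_hom_app_eq]
  exact (Iso.hom_inv_id_app (F.mapDerivedCategoryFactors) K).symm

theorem derivedAdj_unit_cmp [HasL G] (hC : HasKProjRes C) (K : CochainComplex C ℤ) :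
    (derivedAdj adj hC).unit.app (Q.obj K) ≫ F.mapDerivedCategory.map ((cmp G).app K) =
      Q.map (Groth.Agent.Helper3.AdjHtpyPlus.unitC adj (ComplexShape.up ℤ) K) ≫
        (F.mapDerivedCategoryFactors).inv.app ((G.mapHomologicalComplex (ComplexShape.up ℤ)).obj K) := by
  have h := derivedAdj_unit_fac adj hC K
  have h3 : (G.mapHomotopyCategoryFactors (ComplexShape.up ℤ)).hom.app K = 𝟙 _ := rfl
  have h4 : (cmp G).app K =
      (Lε G).app ((HomotopyCategory.quotient C (ComplexShape.up ℤ)).obj K) := by
    dsimp [cmp]
    rw [h3]
    erw [CategoryTheory.Functor.map_id, Category.comp_id]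
  rw [h4]
  refine h.trans ?_
  congr 1
  exact factorsh_inv_app_eq F ((G.mapHomologicalComplex (ComplexShape.up ℤ)).obj K)

end Derived

end Groth.Agent.Lib.Helper5.KProj
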