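import Mathlib

/-!
# Recognizing left derived functors on a class of good objects (helper5)
-/
set_option autoImplicit false
set_option linter.style.haveILetI false
open CategoryTheory

namespace Groth.Agent.Lib.Helper5.KProj

variable {K D H : Type*} [Category K] [Category D] [Category H] (L : K ⥤ D)
  (W : MorphismProperty K) [L.IsLocalization W]
  (N : K ⥤ H) (LN : D ⥤ H) (ε : L ⋙ LN ⟶ N) [LN.IsLeftDerivedFunctor ε W]
  (G : D ⥤ H) (α : L ⋙ G ⟶ N) (good : K → Prop)

/-- the canonical map to a left derived functor is an isomorphism as soon as both counits are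
isomorphisms on a class of objects which represents every object of the localization -/
theorem isIso_leftDerivedLift' (hgood : ∀ E : D, ∃ P, good P ∧ Nonempty (L.obj P ≅ E))
    (hε : ∀ P, good P → IsIso (ε.app P)) (hα : ∀ P, good P → IsIso (α.app P)) :
    IsIso (LN.leftDerivedLift ε W G α) := by
  apply (config := { allowSynthFailures := true }) NatIso.isIso_of_isIso_app
  intro E
  obtain ⟨P, hP, ⟨e⟩⟩ := hgood E
  have hnat : (LN.leftDerivedLift ε W G α).app E =
      G.map e.inv ≫ (LN.leftDerivedLift ε W G α).app (L.obj P) ≫ LN.map e.hom := by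
    rw [(LN.leftDerivedLift ε W G α).naturality_assoc, ← CategoryTheory.Functor.map_comp,
      e.inv_hom_id, CategoryTheory.Functor.map_id, Category.comp_id]
  rw [hnat]
  haveI : IsIso ((LN.leftDerivedLift ε W G α).app (L.obj P)) := by
    have hfac := LN.leftDerived_fac_app ε W G α P
    haveI := hε P hP
    have h6 : IsIso ((LN.leftDerivedLift ε W G α).app (L.obj P) ≫ ε.app P) := by
      rw [hfac]; exact hα P hP
    exact IsIso.of_isIso_comp_right _ (ε.app P)
  infer_instance

/-- a functor with a comparison map which is invertible on good objects is a left derived functor -/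
theorem isLeftDerivedFunctor_of_isIso_good (hgood : ∀ E : D, ∃ P, good P ∧ Nonempty (L.obj P ≅ E))
    (hε : ∀ P, good P → IsIso (ε.app P)) (hα : ∀ P, good P → IsIso (α.app P)) :
    G.IsLeftDerivedFunctor α W := by
  rw [Functor.isLeftDerivedFunctor_iff_isIso_leftDerivedLift LN ε W G α]
  exact isIso_leftDerivedLift' L W N LN ε G α good hgood hε hα

end Groth.Agent.Lib.Helper5.KProj
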