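import Mathlib

set_option autoImplicit false
universe w v u
open CategoryTheory Limits

namespace Groth.Agent.Lib.Helper5.KProj.PtKan

variable {C D H : Type*} [Category C] [Category D] [Category H] (L : C ⥤ D) (F : C ⥤ H)

/-- `X` is good for `(L, F)`: maps `L X ⟶ L Y` lift to `C`, and `F` does not see the choice of lift. -/
structure Good (X : C) : Prop where
  surj : ∀ (Y : C) (u : L.obj X ⟶ L.obj Y), ∃ f : X ⟶ Y, L.map f = u
  inv : ∀ (Y : C) (f g : X ⟶ Y), L.map f = L.map g → F.map f = F.map g

variable {L F} {X : C} (hX : Good L F X)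

/-- a chosen lift -/
noncomputable def lift (Y : StructuredArrow (L.obj X) L) : X ⟶ Y.right :=
  (hX.surj Y.right Y.hom).choose

lemma lift_spec (Y : StructuredArrow (L.obj X) L) : L.map (lift hX Y) = Y.hom :=
  (hX.surj Y.right Y.hom).choose_spec

lemma map_lift_mk_id : F.map (lift hX (StructuredArrow.mk (𝟙 (L.obj X)))) = 𝟙 _ := by
  rw [← F.map_id]
  apply hX.inv
  rw [lift_spec, L.map_id]
  rfl

/-- the limit cone with point `F X` -/
noncomputable def cone : Cone (StructuredArrow.proj (L.obj X) L ⋙ F) where
  pt := F.obj X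
  π :=
    { app := fun Y => F.map (lift hX Y)
      naturality := fun Y Y' g => by
        have h : F.map (lift hX Y') = F.map (lift hX Y ≫ g.right) := by
          apply hX.inv
          rw [L.map_comp, lift_spec, lift_spec]
          exact (StructuredArrow.w g).symm
        show 𝟙 _ ≫ F.map (lift hX Y') = F.map (lift hX Y) ≫ F.map g.right
        rw [Category.id_comp, h, F.map_comp] }

/-- it is a limit cone -/
noncomputable def isLimitCone : IsLimit (cone hX) where
  lift s := s.π.app (StructuredArrow.mk (𝟙 (L.obj X)))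
  fac s Y := by
    have := s.w (StructuredArrow.homMk (lift hX Y) (by simp [lift_spec]) :
      StructuredArrow.mk (𝟙 (L.obj X)) ⟶ Y)
    exact this
  uniq s m hm := by
    have := hm (StructuredArrow.mk (𝟙 (L.obj X)))
    dsimp [cone] at this
    erw [map_lift_mk_id hX, Category.comp_id] at this
    exact this

include hX in
theorem hasPointwiseRightKanExtensionAt : Functor.HasPointwiseRightKanExtensionAt L F (L.obj X) :=
  ⟨⟨_, isLimitCone hX⟩⟩

include hX in
/-- the counit of a pointwise right Kan extension is invertible at a good object -/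
theorem isIso_app (LF : D ⥤ H) (α : L ⋙ LF ⟶ F)
    (hpt : (Functor.RightExtension.mk LF α).IsPointwiseRightKanExtensionAt (L.obj X)) :
    IsIso (α.app X) := by
  let e := hpt.conePointUniqueUpToIso (isLimitCone hX)
  have h := hpt.conePointUniqueUpToIso_hom_comp (isLimitCone hX)
    (StructuredArrow.mk (𝟙 (L.obj X)))
  have h2 : ((Functor.RightExtension.mk LF α).coneAt (L.obj X)).π.app
      (StructuredArrow.mk (𝟙 (L.obj X))) = LF.map (𝟙 _) ≫ α.app X := rfl
  rw [h2, CategoryTheory.Functor.map_id, Category.id_comp] at h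
  dsimp [cone] at h
  erw [map_lift_mk_id hX, Category.comp_id] at h
  rw [← h]
  infer_instance

variable (L F)

theorem hasPointwiseLeftDerivedFunctor (W : MorphismProperty C) [L.IsLocalization W]
    (h : ∀ X : C, ∃ (P : C) (f : P ⟶ X), W f ∧ Good L F P) :
    F.HasPointwiseLeftDerivedFunctor W := by
  intro X
  obtain ⟨P, f, hf, hP⟩ := h X
  rw [← F.hasPointwiseLeftDerivedFunctorAt_iff_of_mem _ f hf,
    F.hasPointwiseLeftDerivedFunctorAt_iff L W]
  exact hasPointwiseRightKanExtensionAt hP

/-- the counit of a left derived functor is invertible at good objects, when there are enough -/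
theorem isIso_counit_app (W : MorphismProperty C) [L.IsLocalization W]
    (h : ∀ X : C, ∃ (P : C) (f : P ⟶ X), W f ∧ Good L F P)
    (LF : D ⥤ H) (α : L ⋙ LF ⟶ F) [LF.IsLeftDerivedFunctor α W] {X : C} (hX : Good L F X) :
    IsIso (α.app X) := by
  have := hasPointwiseLeftDerivedFunctor L F W h
  exact isIso_app hX LF α
    (Functor.isPointwiseRightKanExtensionOfHasPointwiseLeftDerivedFunctor (F' := LF) (α := α) W
      (L.obj X))

end Groth.Agent.Lib.Helper5.KProj.PtKan
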