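import Mathlib
import Groth.Prelude.Def_DDual2
import Groth.Agent.Lib.Helper5.KProj.Colim
import Groth.Agent.Lib.Helper5.KProj.Derived
import Groth.Agent.Lib.Helper5.DRing.FlatBC
import Groth.Agent.Lib.Helper5.DRing.Classes

set_option autoImplicit false
universe u
open CategoryTheory Limits DerivedCategory
attribute [local instance] HasDerivedCategory.standard

namespace Groth.Agent.Lib.Helper5.KProj

theorem hasKProjRes_moduleCat (A : Type u) [CommRing A] : HasKProjRes (ModuleCat.{u} A) :=
  fun X => exists_kprojective_resolution X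

variable {A B : Type u} [CommRing A] [CommRing B] (φ : A →+* B)

/-- termwise base change of complexes -/
noncomputable abbrev bcCx : DRing.Cx A ⥤ DRing.Cx B :=
  (ModuleCat.extendScalars.{u, u, u} φ).mapHomologicalComplex (ComplexShape.up ℤ)

/-- the comparison map `LBC(Q P) ⟶ Q (P ⊗ B)` -/
noncomputable def lbcCmp [DRing.HasLBaseChange φ] :
    Q ⋙ DRing.LBaseChange φ ⟶ bcCx φ ⋙ Q :=
  cmp (ModuleCat.extendScalars.{u, u, u} φ)

instance isIso_lbcCmp_app [DRing.HasLBaseChange φ] (P : DRing.Cx A) [P.IsKProjective] :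
    IsIso ((lbcCmp φ).app P) :=
  isIso_cmp_app (ModuleCat.extendScalars.{u, u, u} φ) (hasKProjRes_moduleCat A) P

/-- derived base change of a K-projective complex -/
noncomputable def lbcIso [DRing.HasLBaseChange φ] (P : DRing.Cx A) [P.IsKProjective] :
    (DRing.LBaseChange φ).obj (DRing.toD P) ≅ DRing.toD ((bcCx φ).obj P) :=
  asIso ((lbcCmp φ).app P)

open TensorProduct in
theorem finite_projective_extendScalars (M : ModuleCat.{u} A) [Module.Finite A M]
    [Module.Projective A M] :
    Module.Finite B ((ModuleCat.extendScalars.{u, u, u} φ).obj M) ∧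
      Module.Projective B ((ModuleCat.extendScalars.{u, u, u} φ).obj M) := by
  letI := φ.toAlgebra
  have h1 : Module.Finite B (B ⊗[A] M) := inferInstance
  have h2 : Module.Projective B (B ⊗[A] M) := inferInstance
  have e := Groth.Agent.Helper5.FlatBC.eqv (R := A) B M
  have h3 : Module.Finite B (Groth.Agent.Helper5.FlatBC.N' (R := A) B M) := Module.Finite.equiv e
  have h4 : Module.Projective B (Groth.Agent.Helper5.FlatBC.N' (R := A) B M) :=
    Module.Projective.of_equiv e
  exact ⟨h3, h4⟩

theorem vanishesOutside_bcCx (E : DRing.Cx A) (a b : ℤ) (h : DRing.VanishesOutside E a b) :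
    DRing.VanishesOutside ((bcCx φ).obj E) a b := fun i hi =>
  (ModuleCat.extendScalars.{u, u, u} φ).map_isZero (h i hi)

theorem termwiseFiniteProjective_bcCx (E : DRing.Cx A) (h : DRing.TermwiseFiniteProjective E) :
    DRing.TermwiseFiniteProjective ((bcCx φ).obj E) := fun i => by
  obtain ⟨h1, h2⟩ := h i
  exact finite_projective_extendScalars φ (E.X i)

theorem isPerfect_LBaseChange [DRing.HasLBaseChange φ] (K : Dual.D A)
    (hK : DRing.IsPerfect A K) : DRing.IsPerfect B ((DRing.LBaseChange φ).obj K) := by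
  obtain ⟨E, a, b, h1, h2, ⟨e⟩⟩ := hK
  haveI : E.IsKProjective := Groth.Agent.Helper5.DRingCone.PerfClass.kproj E ⟨a, b, h1, h2⟩
  exact ⟨(bcCx φ).obj E, a, b, vanishesOutside_bcCx φ E a b h1,
    termwiseFiniteProjective_bcCx φ E h2,
    ⟨(lbcIso φ E).symm ≪≫ (DRing.LBaseChange φ).mapIso e⟩⟩

end Groth.Agent.Lib.Helper5.KProj
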