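import Mathlib
import Groth.Agent.Lib.Helper5.KProj.LBC
import Groth.Agent.Lib.Helper5.TorAmp.Rep
import Groth.Agent.Lib.Helper5.DRing.PCRes

set_option autoImplicit false
universe u
open CategoryTheory Limits DerivedCategory Pretriangulated
attribute [local instance] HasDerivedCategory.standard

namespace Groth.Agent.Lib.Helper5.KProj

section General
variable {C : Type*} [Category C] [Abelian C]

theorem isKProjective_mappingCone {F G : CochainComplex C ℤ} (φ : F ⟶ G) [F.IsKProjective]
    [G.IsKProjective] : (CochainComplex.mappingCone φ).IsKProjective := by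
  rw [CochainComplex.isKProjective_iff_leftOrthogonal]
  exact ObjectProperty.ext_of_isTriangulatedClosed₃ _ _
    (HomotopyCategory.mappingCone_triangleh_distinguished φ)
    (CochainComplex.IsKProjective.leftOrthogonal F) (CochainComplex.IsKProjective.leftOrthogonal G)

end General

variable {A B : Type u} [CommRing A] [CommRing B] (φ : A →+* B)

/-- every object of `D(A)` is represented by a K-projective complex -/
theorem exists_kproj_rep (K : Dual.D A) :
    ∃ P : DRing.Cx A, P.IsKProjective ∧ Nonempty (DRing.toD P ≅ K) := by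
  obtain ⟨P, f, hP, hf⟩ := exists_kprojective_resolution (Q.objPreimage K)
  exact ⟨P, hP, ⟨asIso (Q.map f) ≪≫ Q.objObjPreimageIso K⟩⟩

theorem lbc_map_Q [DRing.HasLBaseChange φ] {E P : DRing.Cx A} (a : E ⟶ P) [E.IsKProjective]
    [P.IsKProjective] :
    (DRing.LBaseChange φ).map (Q.map a) =
      (lbcIso φ E).hom ≫ Q.map ((bcCx φ).map a) ≫ (lbcIso φ P).inv := by
  have := (lbcCmp φ).naturality a
  dsimp at this
  rw [← Category.assoc, Iso.eq_comp_inv]
  exact this

theorem vanishesAbove_bcCx (E : DRing.Cx A) (b : ℤ) (h : DRing.VanishesAbove E b) :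
    DRing.VanishesAbove ((bcCx φ).obj E) b := fun i hi =>
  (ModuleCat.extendScalars.{u, u, u} φ).map_isZero (h i hi)

/-- derived base change is right t-exact -/
theorem isLE_LBaseChange [DRing.HasLBaseChange φ] (K : Dual.D A) (c : ℤ) [K.IsLE c] :
    ((DRing.LBaseChange φ).obj K).IsLE c := by
  obtain ⟨P, hP, -, hPk, ⟨e⟩⟩ := Groth.Agent.Helper5.TorAmp.exists_proj_rep K c
  have : ((bcCx φ).obj P).IsStrictlyLE c :=
    Groth.Agent.Helper5.TorAmp.isStrictlyLE_of_vanishesAbove (vanishesAbove_bcCx φ P c hP)
  have : (Q.obj ((bcCx φ).obj P)).IsLE c := inferInstance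
  exact TStructure.t.isLE_of_iso ((lbcIso φ P).symm ≪≫ (DRing.LBaseChange φ).mapIso e) c

theorem finite_free_extendScalars (M : ModuleCat.{u} A) [Module.Finite A M] [Module.Free A M] :
    Module.Finite B ((ModuleCat.extendScalars.{u, u, u} φ).obj M) ∧
      Module.Free B ((ModuleCat.extendScalars.{u, u, u} φ).obj M) := by
  let _ := φ.toAlgebra
  have h1 : Module.Finite B (TensorProduct A B M) := inferInstance
  have h2 : Module.Free B (TensorProduct A B M) := inferInstance
  have e := Groth.Agent.Helper5.FlatBC.eqv (R := A) B M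
  have h3 : Module.Finite B (Groth.Agent.Helper5.FlatBC.N' (R := A) B M) := Module.Finite.equiv e
  have h4 : Module.Free B (Groth.Agent.Helper5.FlatBC.N' (R := A) B M) := Module.Free.of_equiv e
  exact ⟨h3, h4⟩

theorem termwiseFiniteFree_bcCx (E : DRing.Cx A) (h : DRing.TermwiseFiniteFree E) :
    DRing.TermwiseFiniteFree ((bcCx φ).obj E) := fun i => by
  obtain ⟨h1, h2⟩ := h i
  exact finite_free_extendScalars φ (E.X i)

/-- derived base change preserves `m`-pseudo-coherence -/
theorem isPseudoCoherent_LBaseChange [DRing.HasLBaseChange φ] (K : Dual.D A) (m : ℤ)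
    (hK : DRing.IsPseudoCoherent A m K) :
    DRing.IsPseudoCoherent B m ((DRing.LBaseChange φ).obj K) := by
  obtain ⟨E, a, b, α, h1, h2, h3, h4⟩ := hK
  obtain ⟨P, hP, ⟨e⟩⟩ := exists_kproj_rep K
  have hE : E.IsKProjective := Groth.Agent.S2067.kproj_of E b (fun i hi => h1 i (Or.inr hi)) h2
  obtain ⟨f, hf⟩ := Groth.Agent.Helper5.DRingCone.exists_chain_map E P (α ≫ e.inv)
  have hC : (CochainComplex.mappingCone f).IsKProjective := isKProjective_mappingCone f
  -- the cone of `f` has no cohomology in degrees `≥ m`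
  have hvan := Groth.Agent.Helper5.PCRes.cone_vanish_of_iso_epi _
    (mappingCone_triangle_distinguished f) m
    (by
      intro i hi
      have := h3 i hi
      show IsIso ((homologyFunctor _ i).map (Q.map f))
      rw [hf, Functor.map_comp]
      infer_instance)
    (by
      show Epi ((homologyFunctor _ m).map (Q.map f))
      rw [hf, Functor.map_comp]
      infer_instance)
  have hle : (Q.obj (CochainComplex.mappingCone f)).IsLE (m - 1) := by
    rw [isLE_iff]
    intro i hi
    exact hvan i (by omega)
  have hle' := isLE_LBaseChange φ (Q.obj (CochainComplex.mappingCone f)) (m - 1)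
  have hle'' : (Q.obj (CochainComplex.mappingCone ((bcCx φ).map f))).IsLE (m - 1) :=
    TStructure.t.isLE_of_iso ((lbcIso φ (CochainComplex.mappingCone f)) ≪≫
      Q.mapIso (CochainComplex.mappingCone.mapHomologicalComplexIso f
        (ModuleCat.extendScalars.{u, u, u} φ))) (m - 1)
  have hie := Groth.Agent.Helper5.PCRes.iso_epi_of_cone_vanish _
    (mappingCone_triangle_distinguished ((bcCx φ).map f)) m
    (fun i hi => (isLE_iff _ _).1 hle'' i (by omega))
  have hα : (DRing.LBaseChange φ).map α =
      (lbcIso φ E).hom ≫ Q.map ((bcCx φ).map f) ≫ (lbcIso φ P).inv ≫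
        (DRing.LBaseChange φ).map e.hom := by
    have : α = Q.map f ≫ e.hom := by rw [hf, Category.assoc, Iso.inv_hom_id, Category.comp_id]
    rw [this, Functor.map_comp, lbc_map_Q]
    simp
  refine ⟨(bcCx φ).obj E, a, b, (lbcIso φ E).inv ≫ (DRing.LBaseChange φ).map α,
    vanishesOutside_bcCx φ E a b h1, termwiseFiniteFree_bcCx φ E h2, ?_, ?_⟩
  · intro i hi
    have := hie.1 i hi
    rw [hα, Iso.inv_hom_id_assoc]
    change IsIso ((homologyFunctor _ i).map (Q.map ((bcCx φ).map f))) at this
    rw [Functor.map_comp]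
    infer_instance
  · have := hie.2
    rw [hα, Iso.inv_hom_id_assoc]
    change Epi ((homologyFunctor _ m).map (Q.map ((bcCx φ).map f))) at this
    rw [Functor.map_comp]
    infer_instance

end Groth.Agent.Lib.Helper5.KProj
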