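import Mathlib
import Groth.Agent.Lib.Helper5.KProj.Tri

set_option autoImplicit false
universe u
open CategoryTheory Limits DerivedCategory Pretriangulated MonoidalCategory
attribute [local instance] HasDerivedCategory.standard

namespace Groth.Agent.Lib.Helper5.KProj
open Groth.Agent.Helper5.FlatAcyc Groth.Agent.Helper5.TorAmp

variable {A : Type u} [CommRing A] (M : ModuleCat.{u} A)

/-- the comparison map `LTensor M (Q P) ⟶ Q (P ⊗ M)` -/
noncomputable def ltCmp [DRing.HasLTensor A M] : Q ⋙ DRing.LTensor A M ⟶ TM M ⋙ Q :=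
  cmp (tensorRight M)

instance isIso_ltCmp_app [DRing.HasLTensor A M] (P : DRing.Cx A) [P.IsKProjective] :
    IsIso ((ltCmp M).app P) :=
  isIso_cmp_app (tensorRight M) (hasKProjRes_moduleCat A) P

/-- derived tensor product of a K-projective complex with a module -/
noncomputable def ltIso [DRing.HasLTensor A M] (P : DRing.Cx A) [P.IsKProjective] :
    (DRing.LTensor A M).obj (DRing.toD P) ≅ DRing.toD ((TM M).obj P) :=
  asIso ((ltCmp M).app P)

theorem exactAt_iff_subsingleton_HD (X : DRing.Cx A) (i : ℤ) :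
    X.ExactAt i ↔ Subsingleton (Dual.HD A (DRing.toD X) i) := by
  rw [HomologicalComplex.exactAt_iff_isZero_homology]
  have e := (homologyFunctorFactors (ModuleCat.{u} A) i).app X
  constructor
  · intro h
    exact ModuleCat.subsingleton_of_isZero (h.of_iso e)
  · intro h
    have h' : IsZero ((homologyFunctor (ModuleCat.{u} A) i).obj (DRing.toD X)) :=
      @ModuleCat.isZero_of_subsingleton _ _ _ h
    exact h'.of_iso e.symm

theorem subsingleton_HD_of_iso {K L : Dual.D A} (e : K ≅ L) (i : ℤ)
    (h : Subsingleton (Dual.HD A K i)) : Subsingleton (Dual.HD A L i) :=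
  ModuleCat.subsingleton_of_isZero
    ((@ModuleCat.isZero_of_subsingleton _ _ ((homologyFunctor (ModuleCat.{u} A) i).obj K) h).of_iso
    ((homologyFunctor (ModuleCat.{u} A) i).mapIso e.symm))

/-- tor amplitude through the vanishing of the cohomology of derived tensor products -/
theorem hasTorAmplitudeIn_iff_LTensor [∀ M : ModuleCat.{u} A, DRing.HasLTensor A M]
    (K : Dual.D A) (a b : ℤ) :
    DRing.HasTorAmplitudeIn A a b K ↔
      ∀ (M : ModuleCat.{u} A) (i : ℤ), (i < a ∨ b < i) →
        Subsingleton (Dual.HD A ((DRing.LTensor A M).obj K) i) := by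
  constructor
  · intro h M i hi
    have hle : K.IsLE b := isLE_of_hasTorAmplitudeIn h
    obtain ⟨P, hPb, hproj, hPk, ⟨e⟩⟩ := exists_proj_rep K b
    have hflat := termwiseFlat_of_projective P hproj
    have htv := (hasTorAmplitudeIn_iff P hflat b hPb a b).1 (hasTorAmplitudeIn_of_iso e.symm h)
    have h1 := (exactAt_iff_subsingleton_HD _ i).1 (htv M i hi)
    exact subsingleton_HD_of_iso ((ltIso M P).symm ≪≫ (DRing.LTensor A M).mapIso e) i h1
  · intro h
    -- `K` is bounded above
    obtain ⟨P₀, hP₀, ⟨e₀⟩⟩ := exists_kproj_rep K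
    have eK : (DRing.LTensor A (𝟙_ (ModuleCat.{u} A))).obj K ≅ K :=
      (DRing.LTensor A _).mapIso e₀.symm ≪≫ ltIso _ P₀ ≪≫ Q.mapIso (tmUnitIso P₀) ≪≫ e₀
    have hle : K.IsLE b := by
      rw [isLE_iff]
      intro i hi
      have := subsingleton_HD_of_iso eK i (h _ i (Or.inr hi))
      exact @ModuleCat.isZero_of_subsingleton _ _ _ this
    obtain ⟨P, hPb, hproj, hPk, ⟨e⟩⟩ := exists_proj_rep K b
    have hflat := termwiseFlat_of_projective P hproj
    refine hasTorAmplitudeIn_of_iso e ((hasTorAmplitudeIn_iff P hflat b hPb a b).2 ?_)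
    intro M i hi
    rw [exactAt_iff_subsingleton_HD]
    exact subsingleton_HD_of_iso ((DRing.LTensor A M).mapIso e.symm ≪≫ ltIso M P) i (h M i hi)

end Groth.Agent.Lib.Helper5.KProj
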